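import Cfsg.Agent.Base

/-!
# Linear groups: orders, centres, `SL = ker det`, transport along ring isomorphisms
-/

set_option autoImplicit false

namespace CL.Lin

open Matrix
open scoped MatrixGroups

variable {ι : Type*} [Fintype ι] [DecidableEq ι]

section CommRing
variable {R S : Type*} [CommRing R] [CommRing S]

theorem range_toGL :
    (Matrix.SpecialLinearGroup.toGL : SpecialLinearGroup ι R →* GL ι R).range =
      (GeneralLinearGroup.det : GL ι R →* Rˣ).ker := by
  ext g
  constructor
  · rintro ⟨h, rfl⟩
    exact Matrix.SpecialLinearGroup.coeToGL_det h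
  · intro hg
    refine ⟨⟨g.1, ?_⟩, Units.ext rfl⟩
    simpa [Units.ext_iff] using hg

/-- `SL` is the kernel of the determinant on `GL`. -/
noncomputable def slEquivKerDet :
    SpecialLinearGroup ι R ≃* (GeneralLinearGroup.det : GL ι R →* Rˣ).ker :=
  (MonoidHom.ofInjective Matrix.SpecialLinearGroup.toGL_injective).trans
    (MulEquiv.subgroupCongr range_toGL)

theorem card_units_mul_card_SL [Nonempty ι] :
    Nat.card Rˣ * Nat.card (SpecialLinearGroup ι R) = Nat.card (GL ι R) := by
  rw [Nat.card_congr (slEquivKerDet (ι := ι) (R := R)).toEquiv,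
    ← Subgroup.index_mul_card (GeneralLinearGroup.det : GL ι R →* Rˣ).ker, Subgroup.index_ker,
    MonoidHom.range_eq_top.2 GeneralLinearGroup.det_surjective, Subgroup.card_top]

theorem scalar_injective [Nonempty ι] :
    Function.Injective (GeneralLinearGroup.scalar ι : Rˣ →* GL ι R) := by
  intro a b h
  obtain ⟨i⟩ := ‹Nonempty ι›
  have := congrArg (fun g : GL ι R => (g : Matrix ι ι R) i i) h
  simpa [Units.ext_iff] using this

theorem card_center_GL [Nonempty ι] : Nat.card (Subgroup.center (GL ι R)) = Nat.card Rˣ := by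
  rw [GeneralLinearGroup.center_eq_range_scalar]
  exact (Nat.card_congr (MonoidHom.ofInjective scalar_injective).toEquiv).symm

theorem card_units_mul_card_PGL [Nonempty ι] :
    Nat.card Rˣ * Nat.card (ProjGenLinGroup ι R) = Nat.card (GL ι R) := by
  rw [← card_center_GL (ι := ι), ← Subgroup.card_mul_index (Subgroup.center (GL ι R))]
  rfl

theorem card_center_mul_card_PSL :
    Nat.card (Subgroup.center (SpecialLinearGroup ι R)) *
      Nat.card (ProjectiveSpecialLinearGroup ι R) = Nat.card (SpecialLinearGroup ι R) :=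
  Subgroup.card_mul_index (Subgroup.center (SpecialLinearGroup ι R))

/-- Transport of `SL` along a ring isomorphism. -/
def slCongr (e : R ≃+* S) : SpecialLinearGroup ι R ≃* SpecialLinearGroup ι S where
  toFun := Matrix.SpecialLinearGroup.map (e : R →+* S)
  invFun := Matrix.SpecialLinearGroup.map (e.symm : S →+* R)
  left_inv g := by ext i j; simp
  right_inv g := by ext i j; simp
  map_mul' := map_mul _

@[simp] theorem slCongr_apply (e : R ≃+* S) (g : SpecialLinearGroup ι R) (i j : ι) :
    (slCongr e g : Matrix ι ι S) i j = e ((g : Matrix ι ι R) i j) := rfl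

/-- Transport of `GL` along a ring isomorphism. -/
def glCongr (e : R ≃+* S) : GL ι R ≃* GL ι S where
  toFun := GeneralLinearGroup.map (e : R →+* S)
  invFun := GeneralLinearGroup.map (e.symm : S →+* R)
  left_inv g := by ext i j; simp [GeneralLinearGroup.map_apply]
  right_inv g := by ext i j; simp [GeneralLinearGroup.map_apply]
  map_mul' := map_mul _

/-- An isomorphism of groups induces an isomorphism of the quotients by the centres. -/
def quotCenterCongr {G H : Type*} [Group G] [Group H] (e : G ≃* H) :
    (G ⧸ Subgroup.center G) ≃* (H ⧸ Subgroup.center H) :=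
  QuotientGroup.congr _ _ e (by
    ext h
    constructor
    · rintro ⟨g, hg, rfl⟩
      refine Subgroup.mem_center_iff.2 fun y ↦ ?_
      obtain ⟨x, rfl⟩ := e.surjective y
      simp only [MonoidHom.coe_coe, ← map_mul]
      rw [Subgroup.mem_center_iff.1 hg x]
    · intro hh
      refine ⟨e.symm h, Subgroup.mem_center_iff.2 fun x ↦ ?_, by simp⟩
      apply e.injective
      simp [Subgroup.mem_center_iff.1 hh (e x)])

@[simp] theorem quotCenterCongr_mk {G H : Type*} [Group G] [Group H] (e : G ≃* H) (g : G) :
    quotCenterCongr e (g : G ⧸ Subgroup.center G) = (e g : H ⧸ Subgroup.center H) := rfl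

/-- Transport of `PSL` along a ring isomorphism. -/
def pslCongr (e : R ≃+* S) :
    ProjectiveSpecialLinearGroup ι R ≃* ProjectiveSpecialLinearGroup ι S :=
  quotCenterCongr (slCongr e)

/-- Transport of `PGL` along a ring isomorphism. -/
def pglCongr (e : R ≃+* S) : ProjGenLinGroup ι R ≃* ProjGenLinGroup ι S :=
  quotCenterCongr (glCongr e)

/-- Transport of `SL` along a reindexing. -/
def slReindex {κ : Type*} [Fintype κ] [DecidableEq κ] (e : ι ≃ κ) :
    SpecialLinearGroup ι R ≃* SpecialLinearGroup κ R where
  toFun g := ⟨Matrix.reindex e e g.1, by rw [det_reindex_self]; exact g.2⟩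
  invFun g := ⟨Matrix.reindex e.symm e.symm g.1, by rw [det_reindex_self]; exact g.2⟩
  left_inv g := Subtype.ext (by simp)
  right_inv g := Subtype.ext (by simp)
  map_mul' g h := Subtype.ext (Matrix.submatrix_mul_equiv g.1 h.1 e.symm e.symm e.symm).symm

/-- Transport of `GL` along a reindexing. -/
def glReindex {κ : Type*} [Fintype κ] [DecidableEq κ] (e : ι ≃ κ) : GL ι R ≃* GL κ R :=
  Units.mapEquiv (Matrix.reindexAlgEquiv R R e).toMulEquiv

/-- If the centre is trivial, the quotient by the centre is the group itself. -/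
noncomputable def quotCenterEquivOfBot {G : Type*} [Group G] (h : Subgroup.center G = ⊥) :
    (G ⧸ Subgroup.center G) ≃* G :=
  (QuotientGroup.quotientMulEquivOfEq h).trans QuotientGroup.quotientBot

end CommRing

section Field
variable {F : Type*} [Field F] [Fintype F]

theorem card_units_eq : Nat.card Fˣ = Fintype.card F - 1 := by
  rw [Nat.card_units, Nat.card_eq_fintype_card]

theorem card_GL : Nat.card (GL ι F) =
    ∏ i : Fin (Fintype.card ι), (Fintype.card F ^ Fintype.card ι - Fintype.card F ^ (i : ℕ)) := by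
  rw [← card_GL_field, Nat.card_congr (glReindex (R := F) (Fintype.equivFin ι)).toEquiv]

theorem card_SL_mul [Nonempty ι] :
    (Fintype.card F - 1) * Nat.card (SpecialLinearGroup ι F) = Nat.card (GL ι F) := by
  rw [← card_units_eq, card_units_mul_card_SL]

theorem card_PGL_mul [Nonempty ι] :
    (Fintype.card F - 1) * Nat.card (ProjGenLinGroup ι F) = Nat.card (GL ι F) := by
  rw [← card_units_eq, card_units_mul_card_PGL]

theorem card_PGL_eq_card_SL :
    Nat.card (ProjGenLinGroup ι F) = Nat.card (SpecialLinearGroup ι F) := by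
  rcases isEmpty_or_nonempty ι with h | h
  · have : Subsingleton (ProjGenLinGroup ι F) := ProjGenLinGroup.mk_surjective.subsingleton
    rw [Nat.card_unique, Nat.card_unique]
  · have h1 : 0 < Fintype.card F - 1 := by have := Fintype.one_lt_card (α := F); omega
    exact Nat.eq_of_mul_eq_mul_left h1 (card_PGL_mul.trans card_SL_mul.symm)

theorem card_rootsOfUnity_field (n : ℕ) :
    Nat.card (rootsOfUnity n F) = Nat.gcd n (Fintype.card F - 1) := by
  have : rootsOfUnity n F = (powMonoidHom n : Fˣ →* Fˣ).ker := by
    ext x; simp [mem_rootsOfUnity]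
  rw [this, IsCyclic.card_powMonoidHom_ker, card_units_eq, Nat.gcd_comm]

theorem card_center_SL [Nonempty ι] : Nat.card (Subgroup.center (SpecialLinearGroup ι F)) =
    Nat.gcd (Fintype.card ι) (Fintype.card F - 1) := by
  obtain ⟨i⟩ := ‹Nonempty ι›
  rw [Nat.card_congr (Matrix.SpecialLinearGroup.center_equiv_rootsOfUnity' i).toEquiv,
    card_rootsOfUnity_field]

theorem card_PSL_mul [Nonempty ι] : Nat.gcd (Fintype.card ι) (Fintype.card F - 1) *
    Nat.card (ProjectiveSpecialLinearGroup ι F) = Nat.card (SpecialLinearGroup ι F) := by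
  rw [← card_center_SL, card_center_mul_card_PSL]

theorem card_GL_two : Nat.card (GL (Fin 2) F) =
    Fintype.card F * (Fintype.card F - 1) ^ 2 * (Fintype.card F + 1) := by
  rw [card_GL_field, Fin.prod_univ_two]
  obtain ⟨k, hk⟩ : ∃ k, Fintype.card F = k + 1 := ⟨_, (Nat.succ_pred_eq_of_pos Fintype.card_pos).symm⟩
  rw [hk]
  have h1 : (k + 1) ^ 2 - (k + 1) ^ ((0 : Fin 2) : ℕ) = k * (k + 2) := by
    apply Nat.sub_eq_of_eq_add; simp; ring
  have h2 : (k + 1) ^ 2 - (k + 1) ^ ((1 : Fin 2) : ℕ) = k * (k + 1) := by
    apply Nat.sub_eq_of_eq_add; simp; ring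
  rw [h1, h2, Nat.add_sub_cancel]; ring

theorem card_SL_two : Nat.card (SpecialLinearGroup (Fin 2) F) =
    Fintype.card F * (Fintype.card F - 1) * (Fintype.card F + 1) := by
  have h1 : 0 < Fintype.card F - 1 := by have := Fintype.one_lt_card (α := F); omega
  refine Nat.eq_of_mul_eq_mul_left h1 ?_
  rw [card_SL_mul, card_GL_two]; ring

theorem card_PSL_two_mul : Nat.gcd 2 (Fintype.card F - 1) *
    Nat.card (ProjectiveSpecialLinearGroup (Fin 2) F) =
    Fintype.card F * (Fintype.card F - 1) * (Fintype.card F + 1) := by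
  rw [← card_SL_two, ← card_PSL_mul, Fintype.card_fin]

/-- Finite fields with the same number of elements have isomorphic `SL`. -/
theorem nonempty_slCongr {K : Type*} [Field K] [Fintype K] (h : Fintype.card F = Fintype.card K) :
    Nonempty (SpecialLinearGroup ι F ≃* SpecialLinearGroup ι K) :=
  ⟨slCongr (FiniteField.ringEquivOfCardEq h)⟩

theorem nonempty_pslCongr {K : Type*} [Field K] [Fintype K] (h : Fintype.card F = Fintype.card K) :
    Nonempty (ProjectiveSpecialLinearGroup ι F ≃* ProjectiveSpecialLinearGroup ι K) :=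
  ⟨pslCongr (FiniteField.ringEquivOfCardEq h)⟩

theorem nonempty_glCongr {K : Type*} [Field K] [Fintype K] (h : Fintype.card F = Fintype.card K) :
    Nonempty (GL ι F ≃* GL ι K) :=
  ⟨glCongr (FiniteField.ringEquivOfCardEq h)⟩

theorem nonempty_pglCongr {K : Type*} [Field K] [Fintype K] (h : Fintype.card F = Fintype.card K) :
    Nonempty (ProjGenLinGroup ι F ≃* ProjGenLinGroup ι K) :=
  ⟨pglCongr (FiniteField.ringEquivOfCardEq h)⟩

end Field

end CL.Lin
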