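import Cfsg.Agent.Base

/-!
# Linear groups: generation by transvections, perfectness, simplicity
-/

set_option autoImplicit false

namespace CL.Lin

open Matrix Matrix.SpecialLinearGroup
open scoped MatrixGroups commutatorElement

variable {ι F : Type*} [Fintype ι] [DecidableEq ι]

section CommRing
variable [CommRing F]

/-- The Steinberg commutator relation `[t_ij(a), t_jk(b)] = t_ik(ab)`. -/
theorem commutator_transvection {i j k : ι} (hij : i ≠ j) (hjk : j ≠ k) (hik : i ≠ k) (a b : F) :
    ⁅(SpecialLinearGroup.transvection hij a : SpecialLinearGroup ι F),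
      SpecialLinearGroup.transvection hjk b⁆ = SpecialLinearGroup.transvection hik (a * b) := by
  rw [commutatorElement_def, transvection_inv, transvection_inv]
  refine Subtype.ext ?_
  simp only [Matrix.SpecialLinearGroup.coe_mul, transvection_coe, mul_add, add_mul, mul_one, one_mul,
    single_mul_single_same, single_mul_single_of_ne _ _ _ _ hij.symm,
    single_mul_single_of_ne _ _ _ _ hjk.symm, single_mul_single_of_ne _ _ _ _ hik.symm,
    zero_mul, mul_zero, add_zero, ← single_neg, mul_neg, neg_mul, neg_zero]
  abel

theorem transvection_mem_commutatorSet_of_three {i j k : ι} (hij : i ≠ j) (hjk : j ≠ k)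
    (hik : i ≠ k) (c : F) :
    (SpecialLinearGroup.transvection hik c : SpecialLinearGroup ι F) ∈
      commutatorSet (SpecialLinearGroup ι F) :=
  ⟨_, _, by rw [commutator_transvection hij hjk hik c 1, mul_one]⟩

end CommRing

variable [Field F]

theorem diag2n_decompose {i j : ι} (hij : i ≠ j) (a : F) (ha : a ≠ 0) :
    diag2n hij a ha = SpecialLinearGroup.transvection hij a *
      SpecialLinearGroup.transvection hij.symm (- a⁻¹) *
      SpecialLinearGroup.transvection hij a *
      SpecialLinearGroup.transvection hij (-1) *
      SpecialLinearGroup.transvection hij.symm 1 *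
      SpecialLinearGroup.transvection hij (-1) := by
  refine Subtype.ext ?_
  simp only [Matrix.SpecialLinearGroup.coe_mul, transvection_coe, mul_add, add_mul, mul_one, one_mul,
    single_mul_single_same, single_mul_single_of_ne _ _ _ _ hij.symm,
    single_mul_single_of_ne _ _ _ _ hij, zero_mul, mul_zero, add_zero, diag2n_coe]
  ext k l
  simp only [diagonal_apply, Matrix.add_apply, one_apply, single_apply]
  by_cases hki : k = i <;> by_cases hkj : k = j <;> by_cases hli : l = i <;> by_cases hlj : l = j <;>
    simp [*, hij.symm, Ne.symm] <;> field_simp <;> grind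

/-- Induction principle: `SL ι F` is generated (as a monoid) by elementary transvections. -/
theorem transvection_induction (P : SpecialLinearGroup ι F → Prop) (h1 : P 1)
    (htransvec : ∀ (i j : ι) (h : i ≠ j) c, P (SpecialLinearGroup.transvection h c))
    (hmul : ∀ A B, P A → P B → P (A * B)) (A : SpecialLinearGroup ι F) : P A := by
  rcases subsingleton_or_nontrivial ι with h | h
  · rw [Subsingleton.elim A 1]; exact h1
  refine diagonal_transvection_induction' P _ (fun i j hij c hc ↦ ?_) htransvec hmul
  rw [diag2n_decompose hij c hc]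
  refine hmul _ _ (hmul _ _ (hmul _ _ (hmul _ _ (hmul _ _ ?_ ?_) ?_) ?_) ?_) ?_
  all_goals exact htransvec _ _ _ _

/-- A subgroup of `SL ι F` containing all elementary transvections is everything. -/
theorem eq_top_of_transvection_mem {H : Subgroup (SpecialLinearGroup ι F)}
    (h : ∀ (i j : ι) (h : i ≠ j) c, SpecialLinearGroup.transvection h c ∈ H) : H = ⊤ :=
  eq_top_iff.2 fun A _ ↦ transvection_induction (· ∈ H) H.one_mem h (fun _ _ ↦ H.mul_mem) A

theorem exists_ne_ne_of_three_le (h3 : 3 ≤ Fintype.card ι) (i k : ι) : ∃ j, i ≠ j ∧ j ≠ k := by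
  by_contra! h
  have : (Finset.univ : Finset ι) ⊆ {i, k} := by
    intro j _
    by_cases hj : i = j
    · simp [hj]
    · simp [h j hj]
  have h2 := Finset.card_le_card this
  have h3' : ({i, k} : Finset ι).card ≤ 2 := Finset.card_le_two
  rw [Finset.card_univ] at h2
  omega

/-- `SL ι F` is perfect if `ι` has at least three elements. -/
theorem SL_commutator_eq_top (h3 : 3 ≤ Fintype.card ι) :
    commutator (SpecialLinearGroup ι F) = ⊤ := by
  refine eq_top_of_transvection_mem fun i k hik c ↦ ?_
  obtain ⟨j, hij, hjk⟩ := exists_ne_ne_of_three_le h3 i k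
  rw [commutator_eq_closure]
  exact Subgroup.subset_closure (transvection_mem_commutatorSet_of_three hij hjk hik c)

open scoped LinearAlgebra.Projectivization

theorem iSup_lineStab_eq_top :
    (⨆ p : ℙ F (ι → F), lineStab p.submodule) = (⊤ : Subgroup (SpecialLinearGroup ι F)) := by
  refine eq_top_of_transvection_mem fun i j hij c ↦ ?_
  refine Subgroup.mem_iSup_of_mem
    (Projectivization.mk F (Pi.single i (1 : F)) (Pi.single_ne_zero_iff.2 one_ne_zero)) ?_
  rw [Projectivization.submodule_mk]
  exact SL2Gen.transvection_mem_lineStab hij c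

theorem iSup_iwasawaT_eq_top : iSup (PSL.iwasawaT (F := F) (ι := ι)) = ⊤ := by
  have step1 : iSup (PSL.iwasawaT (F := F) (ι := ι)) =
      Subgroup.map (QuotientGroup.mk' (Subgroup.center (Matrix.SpecialLinearGroup ι F)))
        (⨆ p : ℙ F (ι → F),
          Matrix.SpecialLinearGroup.lineStab (F := F) (ι := ι) p.submodule) := by
    rw [Subgroup.map_iSup]
  rw [step1, iSup_lineStab_eq_top]
  exact Subgroup.map_top_of_surjective _ (QuotientGroup.mk'_surjective _)

/-- The Iwasawa structure on `PSL ι F`. -/
noncomputable def pslIwasawa :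
    MulAction.IwasawaStructure (ProjectiveSpecialLinearGroup ι F) (ℙ F (ι → F)) where
  T := PSL.iwasawaT
  is_comm p := by
    have hSL : IsMulCommutative (lineStab (F := F) (ι := ι) p.submodule) := by
      rw [← Projectivization.mk_rep p, Projectivization.submodule_mk]
      exact lineStab_isMulCommutative_of_span p.rep p.rep_nonzero
    exact Subgroup.map_isMulCommutative _ _
  is_conj g p := by
    obtain ⟨g_SL, rfl⟩ := QuotientGroup.mk_surjective g
    rw [Matrix.ProjectiveSpecialLinearGroup.smul_proj_mk]
    change Subgroup.map _ _ = _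
    rw [PSL.smul_submodule, Matrix.SpecialLinearGroup.lineStab_smul,
      PSL.iwasawaT_map_conj]
  is_generator := iSup_iwasawaT_eq_top

/-- If `SL ι F` is perfect and `ι` is nontrivial then `PSL ι F` is simple. -/
theorem PSL_simple_of_perfect [Nontrivial ι] (h : commutator (SpecialLinearGroup ι F) = ⊤) :
    IsSimpleGroup (ProjectiveSpecialLinearGroup ι F) := by
  have : Group.IsPerfect (SpecialLinearGroup ι F) := ⟨h⟩
  have : Group.IsPerfect (ProjectiveSpecialLinearGroup ι F) := inferInstance
  exact MulAction.IwasawaStructure.isSimpleGroup this.commutator_eq_top pslIwasawa inferInstance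

/-- `PSL ι F` is simple if `ι` has at least three elements. -/
theorem PSL_simple (h3 : 3 ≤ Fintype.card ι) : IsSimpleGroup (ProjectiveSpecialLinearGroup ι F) := by
  have : Nontrivial ι := Fintype.one_lt_card_iff_nontrivial.1 (by omega)
  exact PSL_simple_of_perfect (SL_commutator_eq_top h3)

end CL.Lin
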