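import Cfsg.Agent.Base
import Cfsg.Agent.Lin.Card
import Cfsg.Agent.Lin.Gen

/-!
# Tools for exceptional isomorphisms

* `exists_hom_of_blocks`: a homomorphism `G →* H` from a family of objects permuted by `G`
  in the way `H` permutes the index set;
* `quotCenter_equiv_of_hom`: a non-trivial homomorphism from a finite quasisimple group to a group
  of the order of `G/Z(G)` induces an isomorphism.
-/

set_option autoImplicit false

namespace CL.Lin

/-- If `G` acts on `X` (by `act`), `H` acts faithfully on `Y`, `S : Y → X` is injective and every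
`g` permutes the objects `S y` as some `h` permutes `Y`, we get a homomorphism. -/
theorem exists_hom_of_blocks {G H X Y : Type*} [Group G] [Group H] [MulAction H Y]
    [FaithfulSMul H Y] (act : G → X → X) (act_mul : ∀ g g' x, act (g * g') x = act g (act g' x))
    (S : Y → X) (hS : Function.Injective S) (h : ∀ g, ∃ h : H, ∀ y, act g (S y) = S (h • y)) :
    ∃ φ : G →* H, ∀ g y, act g (S y) = S (φ g • y) := by
  choose f hf using h
  refine ⟨MonoidHom.mk' f fun g g' ↦ ?_, hf⟩
  refine eq_of_smul_eq_smul (α := Y) fun y ↦ hS ?_
  rw [← hf, act_mul, hf, hf, mul_smul]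

/-- The elements permuting the objects form a submonoid. -/
theorem blocks_mul {G H X Y : Type*} [Group G] [Group H] [MulAction H Y]
    (act : G → X → X) (act_mul : ∀ g g' x, act (g * g') x = act g (act g' x))
    (S : Y → X) (g g' : G) (hg : ∃ h : H, ∀ y, act g (S y) = S (h • y))
    (hg' : ∃ h : H, ∀ y, act g' (S y) = S (h • y)) :
    ∃ h : H, ∀ y, act (g * g') (S y) = S (h • y) := by
  obtain ⟨h, hh⟩ := hg
  obtain ⟨h', hh'⟩ := hg'
  exact ⟨h * h', fun y ↦ by rw [act_mul, hh', hh, mul_smul]⟩

/-- A non-trivial homomorphism from a perfect group with simple central quotient has central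
kernel. -/
theorem ker_le_center_of_quasisimple {G H : Type*} [Group G] [Group H]
    (hperf : commutator G = ⊤) (hs : IsSimpleGroup (G ⧸ Subgroup.center G)) (φ : G →* H)
    (hφ : ∃ g, φ g ≠ 1) : φ.ker ≤ Subgroup.center G := by
  have hn : (φ.ker.map (QuotientGroup.mk' (Subgroup.center G))).Normal :=
    Subgroup.Normal.map inferInstance _ (QuotientGroup.mk'_surjective _)
  rcases hn.eq_bot_or_eq_top with h | h
  · rw [Subgroup.map_eq_bot_iff, QuotientGroup.ker_mk'] at h
    exact h
  · exfalso
    obtain ⟨g, hg⟩ := hφ
    apply hg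
    have hdec : ∀ x : G, ∃ k ∈ φ.ker, ∃ z ∈ Subgroup.center G, x = k * z := by
      intro x
      have : (QuotientGroup.mk' (Subgroup.center G)) x ∈
          φ.ker.map (QuotientGroup.mk' (Subgroup.center G)) := by rw [h]; trivial
      obtain ⟨k, hk, hkx⟩ := this
      refine ⟨k, hk, k⁻¹ * x, ?_, by group⟩
      exact QuotientGroup.eq.1 hkx
    have : commutator G ≤ φ.ker := by
      rw [commutator_def, Subgroup.commutator_le]
      intro x _ y _
      obtain ⟨k, hk, z, hz, rfl⟩ := hdec x
      rw [MonoidHom.mem_ker] at hk ⊢
      have hc : z * y = y * z := (Subgroup.mem_center_iff.1 hz y).symm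
      have : φ z * φ y = φ y * φ z := by rw [← map_mul, hc, map_mul]
      rw [map_commutatorElement, commutatorElement_eq_one_iff_mul_comm, map_mul, hk, one_mul, this]
    rw [hperf] at this
    exact this (Subgroup.mem_top g)

/-- A non-trivial homomorphism from a finite quasisimple group `G` to a finite group of order at most
`|G/Z(G)|` is surjective with kernel `Z(G)`. -/
theorem ker_eq_center_and_surjective {G H : Type*} [Group G] [Group H] [Finite G] [Finite H]
    (hperf : commutator G = ⊤) (hs : IsSimpleGroup (G ⧸ Subgroup.center G)) (φ : G →* H)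
    (hφ : ∃ g, φ g ≠ 1) (hcard : Nat.card H ≤ Nat.card (G ⧸ Subgroup.center G)) :
    φ.ker = Subgroup.center G ∧ Function.Surjective φ := by
  have hle := ker_le_center_of_quasisimple hperf hs φ hφ
  have h1 : φ.ker.index = Nat.card φ.range := Subgroup.index_ker φ
  have h2 : Nat.card φ.range ≤ Nat.card H := Nat.card_le_card_of_injective _ Subtype.val_injective
  have h3 : (Subgroup.center G).index ≤ φ.ker.index := Subgroup.index_antitone hle
  have h4 : (Subgroup.center G).index = Nat.card (G ⧸ Subgroup.center G) := rfl
  constructor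
  · have h5 := Subgroup.relIndex_mul_index hle
    have h6 : φ.ker.index = (Subgroup.center G).index := by omega
    rw [h6] at h5
    have h7 : 0 < (Subgroup.center G).index := Nat.pos_of_ne_zero Subgroup.index_ne_zero_of_finite
    have h8 : φ.ker.relIndex (Subgroup.center G) = 1 :=
      Nat.eq_of_mul_eq_mul_right h7 (by rw [h5, one_mul])
    exact le_antisymm hle (Subgroup.relIndex_eq_one.1 h8)
  · rw [← MonoidHom.range_eq_top]
    exact Subgroup.eq_top_of_card_eq _ (by omega)

theorem quotCenter_equiv_of_hom {G H : Type*} [Group G] [Group H] [Finite G] [Finite H]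
    (hperf : commutator G = ⊤) (hs : IsSimpleGroup (G ⧸ Subgroup.center G)) (φ : G →* H)
    (hφ : ∃ g, φ g ≠ 1) (hcard : Nat.card H ≤ Nat.card (G ⧸ Subgroup.center G)) :
    Nonempty ((G ⧸ Subgroup.center G) ≃* H) := by
  obtain ⟨h1, h2⟩ := ker_eq_center_and_surjective hperf hs φ hφ hcard
  exact ⟨(QuotientGroup.quotientMulEquivOfEq h1.symm).trans
    (QuotientGroup.quotientKerEquivOfSurjective φ h2)⟩

/-- A homomorphism from a perfect group to a symmetric group lands in the alternating group. -/
theorem mem_alternatingGroup_of_perfect {G α : Type*} [Group G] [Fintype α] [DecidableEq α]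
    (hperf : commutator G = ⊤) (φ : G →* Equiv.Perm α) (g : G) : φ g ∈ alternatingGroup α := by
  have : commutator G ≤ (Equiv.Perm.sign.comp φ).ker := Abelianization.commutator_subset_ker _
  rw [hperf] at this
  exact Equiv.Perm.mem_alternatingGroup.2 (this (Subgroup.mem_top g))

theorem quotCenter_equiv_alternating {G α : Type*} [Group G] [Finite G] [Fintype α] [DecidableEq α]
    [Nontrivial α] (hperf : commutator G = ⊤) (hs : IsSimpleGroup (G ⧸ Subgroup.center G))
    (φ : G →* Equiv.Perm α) (hφ : ∃ g, φ g ≠ 1)
    (hcard : (Fintype.card α).factorial ≤ 2 * Nat.card (G ⧸ Subgroup.center G)) :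
    Nonempty ((G ⧸ Subgroup.center G) ≃* alternatingGroup α) := by
  refine quotCenter_equiv_of_hom hperf hs
    (φ.codRestrict _ (mem_alternatingGroup_of_perfect hperf φ)) ?_ ?_
  · obtain ⟨g, hg⟩ := hφ
    exact ⟨g, fun h ↦ hg (congrArg Subtype.val h)⟩
  · have := two_mul_nat_card_alternatingGroup (α := α)
    rw [Nat.card_perm, Nat.card_eq_fintype_card (α := α)] at this
    omega

open Matrix in
/-- Over a prime field `SL` is generated by the transvections with parameter `1`. -/
theorem transvection_induction_zmod {ι : Type*} [Fintype ι] [DecidableEq ι] (p : ℕ) [Fact p.Prime]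
    (P : SpecialLinearGroup ι (ZMod p) → Prop) (h1 : P 1)
    (htransvec : ∀ (i j : ι) (h : i ≠ j), P (SpecialLinearGroup.transvection h 1))
    (hmul : ∀ A B, P A → P B → P (A * B)) (A : SpecialLinearGroup ι (ZMod p)) : P A := by
  refine transvection_induction P h1 (fun i j h c ↦ ?_) hmul A
  obtain ⟨k, rfl⟩ := ZMod.natCast_zmod_surjective c
  induction k with
  | zero => simpa using h1
  | succ k ih =>
    rw [Nat.cast_succ, SpecialLinearGroup.transvection_add]
    exact hmul _ _ ih (htransvec i j h)

open Matrix in
/-- `SL` is generated by the transvections with parameter in an additive generating set. -/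
theorem transvection_induction_of_closure {ι F : Type*} [Fintype ι] [DecidableEq ι] [Field F]
    (T : Set F) (hT : AddSubmonoid.closure T = ⊤)
    (P : SpecialLinearGroup ι F → Prop) (h1 : P 1)
    (htransvec : ∀ (i j : ι) (h : i ≠ j), ∀ c ∈ T, P (SpecialLinearGroup.transvection h c))
    (hmul : ∀ A B, P A → P B → P (A * B)) (A : SpecialLinearGroup ι F) : P A := by
  refine transvection_induction P h1 (fun i j h c ↦ ?_) hmul A
  have hc : c ∈ AddSubmonoid.closure T := by rw [hT]; trivial
  induction hc using AddSubmonoid.closure_induction with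
  | mem x hx => exact htransvec i j h x hx
  | zero => simpa using h1
  | add x y _ _ hx hy =>
    rw [SpecialLinearGroup.transvection_add]
    exact hmul _ _ hx hy

end CL.Lin
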