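import Cfsg.Agent.Base
import Cfsg.Agent.Lin.Card

/-!
# The projective line: `PGL₂` is sharply 3-transitive
-/

set_option autoImplicit false

namespace CL.Lin

open Matrix Projectivization
open scoped MatrixGroups LinearAlgebra.Projectivization

variable {F : Type*} [Field F]

/-- Two nonzero vectors of the plane give the same point iff their determinant vanishes. -/
theorem mk_eq_mk_iff_det (u v : Fin 2 → F) (hu : u ≠ 0) (hv : v ≠ 0) :
    Projectivization.mk F u hu = Projectivization.mk F v hv ↔ u 0 * v 1 = u 1 * v 0 := by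
  rw [mk_eq_mk_iff']
  constructor
  · rintro ⟨a, rfl⟩
    simp only [Pi.smul_apply, smul_eq_mul]; ring
  · intro h
    by_cases h0 : v 0 = 0
    · have h1 : v 1 ≠ 0 := by
        intro h1; apply hv; ext i; fin_cases i <;> simp [h0, h1]
      refine ⟨u 1 / v 1, ?_⟩
      have : u 0 = 0 := by
        rw [h0, mul_zero] at h
        exact (mul_eq_zero.1 h).resolve_right h1
      ext i; fin_cases i <;> simp [h0, h1, this]
    · refine ⟨u 0 / v 0, ?_⟩
      ext i; fin_cases i
      · simp [h0]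
      · simp only [Pi.smul_apply, smul_eq_mul, Fin.mk_one]
        field_simp
        linear_combination h

theorem vec10_ne_zero : (![1, 0] : Fin 2 → F) ≠ 0 := by
  intro h; simpa using congrFun h 0

theorem vec_one_ne_zero (t : F) : (![t, 1] : Fin 2 → F) ≠ 0 := by
  intro h; simpa using congrFun h 1

/-- The point `∞ = [1 : 0]` of the projective line. -/
def ptInf (F : Type*) [Field F] : ℙ F (Fin 2 → F) := Projectivization.mk F ![1, 0] vec10_ne_zero

/-- The point `[t : 1]` of the projective line. -/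
def ptAff (t : F) : ℙ F (Fin 2 → F) := Projectivization.mk F ![t, 1] (vec_one_ne_zero t)

theorem ptAff_injective : Function.Injective (ptAff : F → ℙ F (Fin 2 → F)) := by
  intro s t h
  simpa [ptAff, mk_eq_mk_iff_det] using h

theorem ptInf_ne_ptAff (t : F) : ptInf F ≠ ptAff t := by
  simp [ptInf, ptAff, mk_eq_mk_iff_det]

theorem eq_ptInf_or_ptAff (p : ℙ F (Fin 2 → F)) : p = ptInf F ∨ ∃ t, p = ptAff t := by
  induction p using Projectivization.ind with | _ v hv =>
  by_cases h : v 1 = 0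
  · left; simp [ptInf, mk_eq_mk_iff_det, h]
  · right; exact ⟨v 0 / v 1, by simp [ptAff, mk_eq_mk_iff_det]; field_simp⟩

theorem GL_smul_vec (g : GL (Fin 2) F) (v : Fin 2 → F) :
    g • v = (g : Matrix (Fin 2) (Fin 2) F) *ᵥ v := rfl

theorem SL_smul_vec (g : SL(2, F)) (v : Fin 2 → F) :
    g • v = (g : Matrix (Fin 2) (Fin 2) F) *ᵥ v := rfl

theorem toGL_smul_pt {ι : Type*} [Fintype ι] [DecidableEq ι] (g : SpecialLinearGroup ι F)
    (p : ℙ F (ι → F)) : Matrix.SpecialLinearGroup.toGL g • p = g • p := by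
  induction p using Projectivization.ind with | _ v hv => rfl

theorem PGL_mk_smul_pt {ι : Type*} [Fintype ι] [DecidableEq ι] (g : GL ι F)
    (p : ℙ F (ι → F)) : (ProjGenLinGroup.mk g : ProjGenLinGroup ι F) • p = g • p := by
  induction p using Projectivization.ind with | _ v hv => rfl

theorem GL_smul_ptInf_eq_iff (g : GL (Fin 2) F) :
    g • ptInf F = ptInf F ↔ (g : Matrix (Fin 2) (Fin 2) F) 1 0 = 0 := by
  simp [ptInf, mk_eq_mk_iff_det, GL_smul_vec, mulVec, dotProduct, Fin.sum_univ_two, eq_comm]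

theorem GL_smul_ptAff_eq_iff (g : GL (Fin 2) F) (s t : F) :
    g • ptAff s = ptAff t ↔ (g : Matrix (Fin 2) (Fin 2) F) 0 0 * s + (g : Matrix (Fin 2) (Fin 2) F) 0 1 =
      ((g : Matrix (Fin 2) (Fin 2) F) 1 0 * s + (g : Matrix (Fin 2) (Fin 2) F) 1 1) * t := by
  simp [ptAff, mk_eq_mk_iff_det, GL_smul_vec, mulVec, dotProduct, Fin.sum_univ_two]

/-- Any three distinct points of the projective line are the image of `∞, 0, 1`. -/
theorem exists_GL_smul_triple (a b c : ℙ F (Fin 2 → F)) (hab : a ≠ b) (hac : a ≠ c) (hbc : b ≠ c) :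
    ∃ g : GL (Fin 2) F, g • ptInf F = a ∧ g • ptAff 0 = b ∧ g • ptAff 1 = c := by
  induction a using Projectivization.ind with | _ u hu =>
  induction b using Projectivization.ind with | _ v hv =>
  induction c using Projectivization.ind with | _ w hw =>
  rw [Ne, mk_eq_mk_iff_det, ← sub_eq_zero] at hab hac hbc
  refine ⟨GeneralLinearGroup.mkOfDetNeZero
    !![(w 0 * v 1 - w 1 * v 0) * u 0, (u 0 * w 1 - u 1 * w 0) * v 0;
       (w 0 * v 1 - w 1 * v 0) * u 1, (u 0 * w 1 - u 1 * w 0) * v 1] ?_, ?_, ?_, ?_⟩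
  · rw [det_fin_two_of]
    have : (w 0 * v 1 - w 1 * v 0) * u 0 * ((u 0 * w 1 - u 1 * w 0) * v 1) -
        (u 0 * w 1 - u 1 * w 0) * v 0 * ((w 0 * v 1 - w 1 * v 0) * u 1) =
        -((v 0 * w 1 - v 1 * w 0) * (u 0 * w 1 - u 1 * w 0) * (u 0 * v 1 - u 1 * v 0)) := by ring
    rw [this]
    exact neg_ne_zero.2 (mul_ne_zero (mul_ne_zero hbc hac) hab)
  all_goals
    simp [ptInf, ptAff, mk_eq_mk_iff_det, GL_smul_vec, mulVec, dotProduct, Fin.sum_univ_two]
    ring

/-- An element of `GL₂` fixing three distinct points is central. -/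
theorem mem_center_of_fix_triple (g : GL (Fin 2) F) (a b c : ℙ F (Fin 2 → F)) (hab : a ≠ b)
    (hac : a ≠ c) (hbc : b ≠ c) (ha : g • a = a) (hb : g • b = b) (hc : g • c = c) :
    g ∈ Subgroup.center (GL (Fin 2) F) := by
  obtain ⟨h, rfl, rfl, rfl⟩ := exists_GL_smul_triple a b c hab hac hbc
  have key : h⁻¹ * g * h ∈ Subgroup.center (GL (Fin 2) F) := by
    have h1 : (h⁻¹ * g * h) • ptInf F = ptInf F := by rw [mul_smul, mul_smul, ha, inv_smul_smul]
    have h2 : (h⁻¹ * g * h) • ptAff (0 : F) = ptAff 0 := by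
      rw [mul_smul, mul_smul, hb, inv_smul_smul]
    have h3 : (h⁻¹ * g * h) • ptAff (1 : F) = ptAff 1 := by
      rw [mul_smul, mul_smul, hc, inv_smul_smul]
    generalize h⁻¹ * g * h = k at h1 h2 h3
    rw [GL_smul_ptInf_eq_iff] at h1
    rw [GL_smul_ptAff_eq_iff] at h2 h3
    rw [GeneralLinearGroup.mem_center_iff_val_mem_range_scalar]
    refine ⟨(k : Matrix (Fin 2) (Fin 2) F) 0 0, ?_⟩
    simp only [mul_zero, zero_add, mul_one] at h2 h3
    rw [h1, h2] at h3
    ext i j
    fin_cases i <;> fin_cases j <;> simp_all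
  have : g = h * (h⁻¹ * g * h) * h⁻¹ := by group
  rw [this]
  exact Subgroup.Normal.conj_mem inferInstance _ key h

theorem three_pretransitive_iff {G X : Type*} [Group G] [MulAction G X] :
    MulAction.IsMultiplyPretransitive G X 3 ↔
      ∀ a b c a' b' c' : X, a ≠ b → a ≠ c → b ≠ c → a' ≠ b' → a' ≠ c' → b' ≠ c' →
        ∃ g : G, g • a = a' ∧ g • b = b' ∧ g • c = c' := by
  rw [MulAction.isMultiplyPretransitive_iff]
  constructor
  · intro h a b c a' b' c' hab hac hbc hab' hac' hbc'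
    have inj : ∀ {x y z : X}, x ≠ y → x ≠ z → y ≠ z → Function.Injective ![x, y, z] := by
      intro x y z h1 h2 h3 i j hij
      fin_cases i <;> fin_cases j <;> simp_all [eq_comm]
    obtain ⟨g, hg⟩ := h ⟨_, inj hab hac hbc⟩ ⟨_, inj hab' hac' hbc'⟩
    exact ⟨g, congrFun (congrArg DFunLike.coe hg) 0, congrFun (congrArg DFunLike.coe hg) 1,
      congrFun (congrArg DFunLike.coe hg) 2⟩
  · intro h x y
    obtain ⟨g, h0, h1, h2⟩ := h (x 0) (x 1) (x 2) (y 0) (y 1) (y 2) (x.injective.ne (by decide))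
      (x.injective.ne (by decide)) (x.injective.ne (by decide)) (y.injective.ne (by decide))
      (y.injective.ne (by decide)) (y.injective.ne (by decide))
    refine ⟨g, ?_⟩
    ext i
    fin_cases i
    exacts [h0, h1, h2]

theorem GL_three_pretransitive :
    MulAction.IsMultiplyPretransitive (GL (Fin 2) F) (ℙ F (Fin 2 → F)) 3 := by
  rw [three_pretransitive_iff]
  intro a b c a' b' c' hab hac hbc hab' hac' hbc'
  obtain ⟨g, rfl, rfl, rfl⟩ := exists_GL_smul_triple a b c hab hac hbc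
  obtain ⟨h, rfl, rfl, rfl⟩ := exists_GL_smul_triple a' b' c' hab' hac' hbc'
  exact ⟨h * g⁻¹, by simp [mul_smul], by simp [mul_smul], by simp [mul_smul]⟩

theorem PGL_three_pretransitive :
    MulAction.IsMultiplyPretransitive (ProjGenLinGroup (Fin 2) F) (ℙ F (Fin 2 → F)) 3 := by
  have := three_pretransitive_iff.1 (GL_three_pretransitive (F := F))
  rw [three_pretransitive_iff]
  intro a b c a' b' c' hab hac hbc hab' hac' hbc'
  obtain ⟨g, h⟩ := this a b c a' b' c' hab hac hbc hab' hac' hbc'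
  exact ⟨ProjGenLinGroup.mk g, by simpa only [PGL_mk_smul_pt] using h⟩

theorem PGL_eq_one_of_fix_triple (g : ProjGenLinGroup (Fin 2) F) (a b c : ℙ F (Fin 2 → F))
    (hab : a ≠ b) (hac : a ≠ c) (hbc : b ≠ c) (ha : g • a = a) (hb : g • b = b) (hc : g • c = c) :
    g = 1 := by
  induction g using Matrix.ProjGenLinGroup.induction_on with | mk g =>
  rw [PGL_mk_smul_pt] at ha hb hc
  exact ProjGenLinGroup.mk_eq_one.2 (mem_center_of_fix_triple g a b c hab hac hbc ha hb hc)

theorem card_pline [Fintype F] : Nat.card (ℙ F (Fin 2 → F)) = Fintype.card F + 1 := by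
  rw [Projectivization.card_of_finrank_two F _ (by simp), Nat.card_eq_fintype_card]

end CL.Lin
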