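import Cfsg.Agent.Base
import Cfsg.Agent.Lin.PLine

/-!
# Sylow subgroups of `GL_n`, `GL_2`, `SL_2` in the defining characteristic
-/

set_option autoImplicit false

namespace CL.Lin

open Matrix
open scoped MatrixGroups Pointwise LinearAlgebra.Projectivization

/-- If `|G| = p^k * m` with `p ∤ m` then the multiplicity of `p` in `|G|` is `k`. -/
theorem factorization_eq_of_eq_pow_mul {p k m N : ℕ} (hp : p.Prime) (h : N = p ^ k * m)
    (hm : ¬ p ∣ m) : N.factorization p = k := by
  have hm0 : m ≠ 0 := by rintro rfl; exact hm (dvd_zero p)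
  rw [h, Nat.factorization_mul (pow_ne_zero _ hp.ne_zero) hm0, Finsupp.add_apply,
    Nat.factorization_eq_zero_of_not_dvd hm, hp.factorization_pow]
  simp

theorem card_sylow_of_card_eq {G : Type*} [Group G] [Finite G] {p k m : ℕ} [hp : Fact p.Prime]
    (h : Nat.card G = p ^ k * m) (hm : ¬ p ∣ m) (P : Sylow p G) : Nat.card P = p ^ k := by
  rw [Sylow.card_eq_multiplicity, factorization_eq_of_eq_pow_mul hp.out h hm]

theorem card_normalizer_mul_card_sylow {G : Type*} [Group G] [Finite G] {p : ℕ} [Fact p.Prime]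
    (P : Sylow p G) :
    Nat.card (Subgroup.normalizer ((P : Subgroup G) : Set G)) * Nat.card (Sylow p G) =
      Nat.card G := by
  rw [Sylow.card_eq_index_normalizer P]
  exact Subgroup.card_mul_index _

variable {F : Type*} [Field F]

section Finite
variable [Fintype F] (p : ℕ) [hp : Fact p.Prime] [CharP F p]

theorem exists_card_eq_pow : ∃ k, 1 ≤ k ∧ Fintype.card F = p ^ k := by
  obtain ⟨n, -, hn⟩ := FiniteField.card F p
  exact ⟨n, n.2, hn⟩

theorem char_dvd_card : p ∣ Fintype.card F := by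
  obtain ⟨k, hk, h⟩ := exists_card_eq_pow (F := F) p
  rw [h]; exact dvd_pow_self p (by omega)

theorem not_dvd_card_pow_sub_one {j : ℕ} (hj : 1 ≤ j) : ¬ p ∣ Fintype.card F ^ j - 1 := by
  intro h
  have h1 : p ∣ Fintype.card F ^ j := dvd_pow (char_dvd_card p) (by omega)
  have h2 : 1 ≤ Fintype.card F ^ j := Nat.one_le_pow _ _ Fintype.card_pos
  have h3 : p ∣ 1 := by
    have := Nat.dvd_sub h1 h
    rwa [Nat.sub_sub_self h2] at this
  exact hp.out.one_lt.ne' (Nat.dvd_one.1 h3)

theorem not_dvd_card_sub_one : ¬ p ∣ Fintype.card F - 1 := by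
  simpa using not_dvd_card_pow_sub_one (F := F) p (j := 1) le_rfl

theorem not_dvd_card_add_one : ¬ p ∣ Fintype.card F + 1 := by
  intro h
  exact hp.out.one_lt.ne' (Nat.dvd_one.1 ((Nat.dvd_add_right (char_dvd_card p)).1 h))

omit hp [CharP F p] in
theorem card_GL_eq_pow_mul (n : ℕ) : Nat.card (GL (Fin n) F) =
    Fintype.card F ^ (n * (n - 1) / 2) * ∏ i : Fin n, (Fintype.card F ^ (n - i) - 1) := by
  rw [card_GL_field, ← Finset.sum_range_id, ← Fin.sum_univ_eq_sum_range (fun i => i) n,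
    ← Finset.prod_pow_eq_pow_sum, ← Finset.prod_mul_distrib]
  refine Finset.prod_congr rfl fun i _ ↦ ?_
  rw [Nat.mul_sub, mul_one, ← pow_add, Nat.add_sub_cancel' i.2.le]

theorem card_sylow_GL (n : ℕ) (P : Sylow p (GL (Fin n) F)) :
    Nat.card P = Fintype.card F ^ (n * (n - 1) / 2) := by
  obtain ⟨k, hk, h⟩ := exists_card_eq_pow (F := F) p
  have h1 := card_GL_eq_pow_mul (F := F) n
  have h2 : Fintype.card F ^ (n * (n - 1) / 2) = p ^ (k * (n * (n - 1) / 2)) := by
    rw [h, pow_mul]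
  rw [h2] at h1 ⊢
  refine card_sylow_of_card_eq h1 ?_ P
  refine Prime.not_dvd_finsetProd hp.out.prime fun i _ ↦ not_dvd_card_pow_sub_one p ?_
  have := i.2
  omega

theorem card_sylow_GL_two (P : Sylow p (GL (Fin 2) F)) : Nat.card P = Fintype.card F := by
  rw [card_sylow_GL]; simp

theorem card_sylow_SL_two (P : Sylow p SL(2, F)) : Nat.card P = Fintype.card F := by
  obtain ⟨k, hk, h⟩ := exists_card_eq_pow (F := F) p
  have h1 := card_SL_two (F := F)
  rw [mul_assoc] at h1
  nth_rewrite 1 [h] at h1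
  rw [h]
  refine card_sylow_of_card_eq h1 ?_ P
  rw [hp.out.dvd_mul, not_or]
  exact ⟨not_dvd_card_sub_one p, not_dvd_card_add_one p⟩

end Finite

/-- The upper unitriangular subgroup of `GL₂`. -/
def glU (F : Type*) [Field F] : Subgroup (GL (Fin 2) F) where
  carrier := {g | (g : Matrix (Fin 2) (Fin 2) F) 0 0 = 1 ∧ (g : Matrix (Fin 2) (Fin 2) F) 1 0 = 0 ∧
    (g : Matrix (Fin 2) (Fin 2) F) 1 1 = 1}
  mul_mem' := by
    rintro a b ⟨h1, h2, h3⟩ ⟨h4, h5, h6⟩
    simp [Matrix.mul_apply, Fin.sum_univ_two, *]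
  one_mem' := by simp
  inv_mem' := by
    rintro a ⟨h1, h2, h3⟩
    have hd : (a : Matrix (Fin 2) (Fin 2) F).det = 1 := by simp [det_fin_two, *]
    simp [Matrix.inv_def, hd, adjugate_fin_two, *]

/-- The upper triangular (Borel) subgroup of `GL₂`. -/
def glB (F : Type*) [Field F] : Subgroup (GL (Fin 2) F) := MulAction.stabilizer _ (ptInf F)

theorem mem_glU {g : GL (Fin 2) F} : g ∈ glU F ↔ (g : Matrix (Fin 2) (Fin 2) F) 0 0 = 1 ∧
    (g : Matrix (Fin 2) (Fin 2) F) 1 0 = 0 ∧ (g : Matrix (Fin 2) (Fin 2) F) 1 1 = 1 := Iff.rfl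

theorem mem_glB {g : GL (Fin 2) F} : g ∈ glB F ↔ (g : Matrix (Fin 2) (Fin 2) F) 1 0 = 0 :=
  GL_smul_ptInf_eq_iff g

theorem glU_le_glB : glU F ≤ glB F := fun _ h ↦ mem_glB.2 h.2.1

theorem upperRightHom_mem_glU (t : F) : GeneralLinearGroup.upperRightHom t ∈ glU F := by
  simp [mem_glU]

theorem eq_upperRightHom_of_mem_glU {g : GL (Fin 2) F} (h : g ∈ glU F) :
    g = GeneralLinearGroup.upperRightHom ((g : Matrix (Fin 2) (Fin 2) F) 0 1) := by
  obtain ⟨h1, h2, h3⟩ := h
  ext i j
  fin_cases i <;> fin_cases j <;> simp [*]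

/-- `U` is parametrised by the upper right entry. -/
def glUEquiv : glU F ≃ F where
  toFun g := (g.1 : Matrix (Fin 2) (Fin 2) F) 0 1
  invFun t := ⟨GeneralLinearGroup.upperRightHom t, upperRightHom_mem_glU t⟩
  left_inv g := Subtype.ext (eq_upperRightHom_of_mem_glU g.2).symm
  right_inv t := by simp

theorem card_glU : Nat.card (glU F) = Nat.card F := Nat.card_congr glUEquiv

/-- A non-identity element of `U` fixes only the point `∞`. -/
theorem eq_ptInf_of_mem_glU {g : GL (Fin 2) F} (h : g ∈ glU F) (h1 : g ≠ 1)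
    {x : ℙ F (Fin 2 → F)} (hx : g • x = x) : x = ptInf F := by
  rcases eq_ptInf_or_ptAff x with rfl | ⟨t, rfl⟩
  · rfl
  · exfalso
    apply h1
    rw [GL_smul_ptAff_eq_iff, h.1, h.2.1, h.2.2] at hx
    have h0 : (g : Matrix (Fin 2) (Fin 2) F) 0 1 = 0 := by linear_combination hx
    rw [eq_upperRightHom_of_mem_glU h, h0, AddChar.map_zero_eq_one]

theorem conj_mem_glU {b u : GL (Fin 2) F} (hb : b ∈ glB F) (hu : u ∈ glU F) :
    b * u * b⁻¹ ∈ glU F := by
  have hb' : b⁻¹ ∈ glB F := inv_mem hb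
  have hm : (b : Matrix (Fin 2) (Fin 2) F) * (b⁻¹ : GL (Fin 2) F) = 1 := by
    rw [← Units.val_mul, mul_inv_cancel, Units.val_one]
  have e0 := congrFun (congrFun hm 0) 0
  have e1 := congrFun (congrFun hm 1) 1
  rw [mem_glB] at hb hb'
  obtain ⟨h1, h2, h3⟩ := hu
  rw [mem_glU]
  simp only [Units.val_mul, Matrix.mul_apply, Fin.sum_univ_two, one_apply_eq] at e0 e1 ⊢
  rw [hb'] at e0
  rw [hb] at e1
  rw [h1, h2, h3, hb, hb']
  refine ⟨by linear_combination e0, by ring, by linear_combination e1⟩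

theorem normalizer_glU : Subgroup.normalizer (glU F : Set (GL (Fin 2) F)) = glB F := by
  ext g
  constructor
  · intro hg
    have h1 : GeneralLinearGroup.upperRightHom (1 : F) ≠ 1 := by
      intro h
      have := congrArg (fun g : GL (Fin 2) F => (g : Matrix (Fin 2) (Fin 2) F) 0 1) h
      simp at this
    have h2 := (Subgroup.mem_normalizer_iff.1 hg _).1 (upperRightHom_mem_glU (1 : F))
    refine eq_ptInf_of_mem_glU h2 (by simpa [mul_inv_eq_iff_eq_mul] using h1) ?_
    rw [mul_smul, mul_smul, inv_smul_smul, (glU_le_glB (upperRightHom_mem_glU (1 : F)) :)]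
  · intro hg
    refine Subgroup.mem_normalizer_iff.2 fun u ↦ ⟨conj_mem_glU hg, fun h ↦ ?_⟩
    have := conj_mem_glU (inv_mem hg) h
    simpa [mul_assoc] using this

theorem index_glB [Fintype F] : (glB F).index = Fintype.card F + 1 := by
  have : MulAction.IsPretransitive (GL (Fin 2) F) (ℙ F (Fin 2 → F)) := by
    have h3 := GL_three_pretransitive (F := F)
    have h2 : MulAction.IsMultiplyPretransitive (GL (Fin 2) F) (ℙ F (Fin 2 → F)) 1 :=
      MulAction.isMultiplyPretransitive_of_le (n := 3) (by norm_num) (by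
        rw [card_pline]; have := Fintype.one_lt_card (α := F); omega)
    exact MulAction.is_one_pretransitive_iff.1 h2
  rw [glB, MulAction.index_stabilizer_of_transitive, card_pline]

theorem card_glB [Fintype F] :
    Nat.card (glB F) = Fintype.card F * (Fintype.card F - 1) ^ 2 := by
  have h := (glB F).card_mul_index
  rw [index_glB, card_GL_two] at h
  exact Nat.eq_of_mul_eq_mul_right (Nat.succ_pos _) h

section Finite
variable [Fintype F] (p : ℕ) [hp : Fact p.Prime] [CharP F p]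

variable (F) in
/-- `U` as a Sylow subgroup of `GL₂`. -/
noncomputable def glUSylow : Sylow p (GL (Fin 2) F) :=
  Sylow.ofCard (glU F) (by
    obtain ⟨P⟩ : Nonempty (Sylow p (GL (Fin 2) F)) := inferInstance
    rw [← Sylow.card_eq_multiplicity P, card_sylow_GL_two, card_glU, Nat.card_eq_fintype_card])

theorem coe_glUSylow : (glUSylow F p : Subgroup (GL (Fin 2) F)) = glU F := rfl

theorem exists_smul_glUSylow (P : Sylow p (GL (Fin 2) F)) :
    ∃ g : GL (Fin 2) F, g • glUSylow F p = P := MulAction.exists_smul_eq _ _ _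

theorem mem_smul_glUSylow (g a : GL (Fin 2) F) :
    a ∈ g • glUSylow F p ↔ g⁻¹ * a * g ∈ glU F := by
  rw [← SetLike.mem_coe, Sylow.coe_smul, Set.mem_smul_set_iff_inv_smul_mem]
  simp only [MulAut.smul_def, MulAut.conj_inv_apply]
  rfl

theorem card_Sylow_GL_two : Nat.card (Sylow p (GL (Fin 2) F)) = Fintype.card F + 1 := by
  rw [Sylow.card_eq_index_normalizer (glUSylow F p), ← index_glB, ← normalizer_glU]
  rfl

theorem sylow_GL_two_inf_eq_bot (P Q : Sylow p (GL (Fin 2) F)) (h : P ≠ Q) :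
    (P : Subgroup (GL (Fin 2) F)) ⊓ Q = ⊥ := by
  obtain ⟨g, rfl⟩ := exists_smul_glUSylow p P
  obtain ⟨k, rfl⟩ := exists_smul_glUSylow p Q
  rw [eq_bot_iff]
  rintro a ⟨h1, h2⟩
  by_contra ha
  apply h
  have h1' := (mem_smul_glUSylow p g a).1 h1
  have h2' := (mem_smul_glUSylow p k a).1 h2
  have hne : g⁻¹ * a * g ≠ 1 := by
    intro h0; apply ha
    have : a = g * (g⁻¹ * a * g) * g⁻¹ := by group
    rw [this, h0]; simp
  have hfix : (g⁻¹ * a * g) • ((g⁻¹ * k) • ptInf F) = (g⁻¹ * k) • ptInf F := by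
    have : (g⁻¹ * a * g) * (g⁻¹ * k) = (g⁻¹ * k) * (k⁻¹ * a * k) := by group
    rw [← mul_smul, this, mul_smul, (glU_le_glB h2' :)]
  have hB : g⁻¹ * k ∈ glB F := eq_ptInf_of_mem_glU h1' hne hfix
  rw [← normalizer_glU] at hB
  have := Sylow.smul_eq_iff_mem_normalizer (P := glUSylow F p).2 hB
  rw [mul_smul, inv_smul_eq_iff] at this
  exact this.symm

theorem card_normalizer_sylow_GL_two (P : Sylow p (GL (Fin 2) F)) :
    Nat.card (Subgroup.normalizer ((P : Subgroup (GL (Fin 2) F)) : Set (GL (Fin 2) F))) =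
      Fintype.card F * (Fintype.card F - 1) ^ 2 := by
  have h := card_normalizer_mul_card_sylow P
  rw [card_Sylow_GL_two, card_GL_two] at h
  exact Nat.eq_of_mul_eq_mul_right (Nat.succ_pos _) h

end Finite

/-- The centraliser of a non-identity element of `U`. -/
theorem mem_centralizer_of_mem_glU {a : GL (Fin 2) F} (ha : a ∈ glU F) (h1 : a ≠ 1)
    (g : GL (Fin 2) F) : g ∈ Subgroup.centralizer ({a} : Set (GL (Fin 2) F)) ↔
      (g : Matrix (Fin 2) (Fin 2) F) 1 0 = 0 ∧
        (g : Matrix (Fin 2) (Fin 2) F) 1 1 = (g : Matrix (Fin 2) (Fin 2) F) 0 0 := by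
  have ht : (a : Matrix (Fin 2) (Fin 2) F) 0 1 ≠ 0 := by
    intro h0; apply h1
    rw [eq_upperRightHom_of_mem_glU ha, h0, AddChar.map_zero_eq_one]
  obtain ⟨e1, e2, e3⟩ := ha
  rw [Subgroup.mem_centralizer_singleton_iff]
  constructor
  · intro h
    have h' := congrArg (fun g : GL (Fin 2) F => (g : Matrix (Fin 2) (Fin 2) F)) h
    have f0 := congrFun (congrFun h' 0) 0
    have f1 := congrFun (congrFun h' 0) 1
    simp only [Units.val_mul, Matrix.mul_apply, Fin.sum_univ_two, e1, e2, e3] at f0 f1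
    constructor
    · exact (mul_eq_zero.1 (by linear_combination -f0)).resolve_left ht
    · exact mul_left_cancel₀ ht (by linear_combination -f1)
  · rintro ⟨h2, h3⟩
    ext i j
    fin_cases i <;> fin_cases j <;> simp [Matrix.mul_apply, Fin.sum_univ_two, *]
    ring

theorem card_centralizer_of_mem_glU {a : GL (Fin 2) F} (ha : a ∈ glU F) (h1 : a ≠ 1) :
    Nat.card (Subgroup.centralizer ({a} : Set (GL (Fin 2) F))) = Nat.card F * Nat.card Fˣ := by
  rw [← Nat.card_prod]
  refine Nat.card_congr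
    { toFun := fun g ↦ ((g.1 : Matrix (Fin 2) (Fin 2) F) 0 1,
        Units.mk0 ((g.1 : Matrix (Fin 2) (Fin 2) F) 0 0) ?_)
      invFun := fun x ↦ ⟨GeneralLinearGroup.mkOfDetNeZero !![x.2, x.1; 0, x.2] (by
        simp [det_fin_two]), (mem_centralizer_of_mem_glU ha h1 _).2 (by simp)⟩
      left_inv := fun g ↦ ?_
      right_inv := fun x ↦ by simp }
  · intro h0
    obtain ⟨h2, h3⟩ := (mem_centralizer_of_mem_glU ha h1 _).1 g.2
    have := g.1.det_ne_zero
    rw [det_fin_two, h0, h2] at this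
    simp at this
  · obtain ⟨h2, h3⟩ := (mem_centralizer_of_mem_glU ha h1 _).1 g.2
    ext i j
    fin_cases i <;> fin_cases j <;> simp [*]

end CL.Lin
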