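import Cfsg.Agent.Base
import Cfsg.Agent.Lin.SylowP
import Cfsg.Agent.Solv.UniqueSubgroupP

/-!
# Sylow subgroups of `SL₂`
-/

set_option autoImplicit false

namespace CL.Lin

open Matrix Matrix.SpecialLinearGroup
open scoped MatrixGroups Pointwise LinearAlgebra.Projectivization

/-- The element of `SL₂` with given entries. -/
def mk2 {R : Type*} [CommRing R] (a b c d : R) (h : a * d - b * c = 1) : SL(2, R) :=
  ⟨!![a, b; c, d], by rw [det_fin_two_of]; exact h⟩

@[simp] theorem coe_mk2 {R : Type*} [CommRing R] (a b c d : R) (h : a * d - b * c = 1) :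
    (mk2 a b c d h : Matrix (Fin 2) (Fin 2) R) = !![a, b; c, d] := rfl

variable {F : Type*} [Field F]

theorem mem_lineStab_ptInf {g : SL(2, F)} : g ∈ lineStab (ptInf F).submodule ↔
    (g : Matrix (Fin 2) (Fin 2) F) 0 0 = 1 ∧ (g : Matrix (Fin 2) (Fin 2) F) 1 0 = 0 ∧
      (g : Matrix (Fin 2) (Fin 2) F) 1 1 = 1 := by
  rw [mem_lineStab_iff, ptInf, Projectivization.submodule_mk]
  simp only [Submodule.mem_span_singleton, SL_smul_vec]
  constructor
  · intro h
    obtain ⟨a, ha⟩ := h ![1, 0]
    obtain ⟨b, hb⟩ := h ![0, 1]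
    have e1 := congrFun ha 1
    have e2 := congrFun hb 1
    have hd := g.det_coe
    simp [mulVec, dotProduct, Fin.sum_univ_two] at e1 e2
    rw [det_fin_two, ← e1] at hd
    have e3 : (g : Matrix (Fin 2) (Fin 2) F) 1 1 = 1 := by linear_combination -e2
    rw [e3] at hd
    exact ⟨by linear_combination hd, e1.symm, e3⟩
  · rintro ⟨h1, h2, h3⟩ w
    refine ⟨(g : Matrix (Fin 2) (Fin 2) F) 0 1 * w 1, ?_⟩
    ext i
    fin_cases i <;> simp [mulVec, dotProduct, Fin.sum_univ_two, *]

theorem card_lineStab_ptInf :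
    Nat.card (lineStab (ptInf F).submodule : Subgroup SL(2, F)) = Nat.card F :=
  Nat.card_congr
    { toFun := fun g ↦ (g.1 : Matrix (Fin 2) (Fin 2) F) 0 1
      invFun := fun t ↦ ⟨SpecialLinearGroup.transvection zero_ne_one t,
        mem_lineStab_ptInf.2 (by simp [transvection_coe])⟩
      left_inv := fun g ↦ by
        obtain ⟨h1, h2, h3⟩ := mem_lineStab_ptInf.1 g.2
        ext i j
        fin_cases i <;> fin_cases j <;> simp [transvection_coe, *]
      right_inv := fun t ↦ by simp [transvection_coe] }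

theorem lineStab_smul_pt {ι : Type*} [Fintype ι] [DecidableEq ι] (g : SpecialLinearGroup ι F)
    (x : ℙ F (ι → F)) :
    lineStab (g • x).submodule = MulAut.conj g • lineStab x.submodule := by
  rw [PSL.smul_submodule, lineStab_smul]

/-- The unipotent subgroups attached to two distinct points generate `SL₂`. -/
theorem lineStab_sup_lineStab {x y : ℙ F (Fin 2 → F)} (h : x ≠ y) :
    (lineStab x.submodule ⊔ lineStab y.submodule : Subgroup SL(2, F)) = ⊤ := by
  have hne : Projectivization.mk F (Pi.single 0 1 : Fin 2 → F) (by simp) ≠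
      Projectivization.mk F (Pi.single 1 1 : Fin 2 → F) (by simp) := by
    simp [mk_eq_mk_iff_det]
  obtain ⟨g, rfl, rfl⟩ := MulAction.is_two_pretransitive_iff.1
    (inferInstance : MulAction.IsMultiplyPretransitive SL(2, F) (ℙ F (Fin 2 → F)) 2) hne h
  rw [lineStab_smul_pt, lineStab_smul_pt, ← Subgroup.smul_sup, Projectivization.submodule_mk,
    Projectivization.submodule_mk, SL2Gen.SL_card_two_lineStab_sup_eq_top]
  exact Subgroup.map_top_of_surjective _ (MulAut.conj g).surjective

/-- The Sylow subgroups of `SL₂` in the defining characteristic are the unipotent subgroups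
attached to points. -/
theorem exists_sylow_SL_two_eq_lineStab [Fintype F] (p : ℕ) [Fact p.Prime] [CharP F p]
    (P : Sylow p SL(2, F)) :
    ∃ x : ℙ F (Fin 2 → F), (P : Subgroup SL(2, F)) = lineStab x.submodule := by
  let U : Sylow p SL(2, F) := Sylow.ofCard (lineStab (ptInf F).submodule) (by
    rw [← Sylow.card_eq_multiplicity P, card_sylow_SL_two, card_lineStab_ptInf,
      Nat.card_eq_fintype_card])
  obtain ⟨g, hg⟩ := MulAction.exists_smul_eq SL(2, F) U P
  exact ⟨g • ptInf F, by rw [← hg, lineStab_smul_pt, Sylow.coe_subgroup_smul]; rfl⟩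

theorem sylow_SL_two_sup_eq_top [Fintype F] (p : ℕ) [Fact p.Prime] [CharP F p]
    (P Q : Sylow p SL(2, F)) (h : P ≠ Q) : (P : Subgroup SL(2, F)) ⊔ Q = ⊤ := by
  obtain ⟨x, hx⟩ := exists_sylow_SL_two_eq_lineStab p P
  obtain ⟨y, hy⟩ := exists_sylow_SL_two_eq_lineStab p Q
  rw [hx, hy]
  refine lineStab_sup_lineStab fun hxy ↦ h (Sylow.ext ?_)
  rw [hx, hy, hxy]

theorem two_ne_zero_of_odd_card [Fintype F] (hF : Odd (Fintype.card F)) : (2 : F) ≠ 0 := by
  intro h
  have hc : ringChar F = 2 := by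
    have := (ringChar.spec F 2).1 (by exact_mod_cast h)
    exact ((Nat.dvd_prime Nat.prime_two).1 this).resolve_left CharP.ringChar_ne_one
  have := FiniteField.even_card_of_char_two hc
  rw [Nat.odd_iff] at hF
  omega

/-- In characteristic not two, `-1` is the only involution of `SL₂`. -/
theorem SL_two_eq_neg_one_of_mul_self (h2ne : (2 : F) ≠ 0) {g : SL(2, F)} (h1 : g ≠ 1)
    (h2 : g * g = 1) : g = -1 := by
  have hinv : g⁻¹ = g := inv_eq_of_mul_eq_one_right h2
  have hadj : (g : Matrix (Fin 2) (Fin 2) F).adjugate = g := by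
    rw [← Matrix.SpecialLinearGroup.coe_inv, hinv]
  have hdet := g.det_coe
  rw [Matrix.adjugate_fin_two] at hadj
  rw [Matrix.det_fin_two] at hdet
  have e00 := congrFun (congrFun hadj 0) 0
  have e01 := congrFun (congrFun hadj 0) 1
  have e10 := congrFun (congrFun hadj 1) 0
  simp at e00 e01 e10
  have h01 : (g : Matrix (Fin 2) (Fin 2) F) 0 1 = 0 := by
    have : 2 * (g : Matrix (Fin 2) (Fin 2) F) 0 1 = 0 := by linear_combination -e01
    exact (mul_eq_zero.1 this).resolve_left h2ne
  have h10 : (g : Matrix (Fin 2) (Fin 2) F) 1 0 = 0 := by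
    have : 2 * (g : Matrix (Fin 2) (Fin 2) F) 1 0 = 0 := by linear_combination -e10
    exact (mul_eq_zero.1 this).resolve_left h2ne
  rw [h01, e00] at hdet
  have : ((g : Matrix (Fin 2) (Fin 2) F) 0 0 - 1) * ((g : Matrix (Fin 2) (Fin 2) F) 0 0 + 1) = 0 := by
    linear_combination hdet
  rcases mul_eq_zero.1 this with h | h
  · exfalso
    apply h1
    ext i j
    fin_cases i <;> fin_cases j <;> simp [h01, h10, e00, sub_eq_zero.1 h]
  · ext i j
    fin_cases i <;> fin_cases j <;> simp [h01, h10, e00, eq_neg_of_add_eq_zero_left h]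

theorem SL_two_neg_one_ne_one (h2ne : (2 : F) ≠ 0) : (-1 : SL(2, F)) ≠ 1 := by
  intro h
  have := congrArg (fun g : SL(2, F) => (g : Matrix (Fin 2) (Fin 2) F) 0 0) h
  simp at this
  exact h2ne (by linear_combination -this)

theorem sq_eq_one_iff_of_field {r : F} : r ^ 2 = 1 ↔ r = 1 ∨ r = -1 := by
  rw [pow_two, mul_self_eq_one_iff]

theorem mem_center_SL_two_iff {g : SL(2, F)} : g ∈ Subgroup.center SL(2, F) ↔ g = 1 ∨ g = -1 := by
  constructor
  · intro h
    obtain ⟨r, hr, hg⟩ := Matrix.SpecialLinearGroup.mem_center_iff.1 h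
    rw [Fintype.card_fin, sq_eq_one_iff_of_field] at hr
    rcases hr with rfl | rfl
    · left; exact Subtype.ext (by rw [← hg, map_one]; rfl)
    · right; exact Subtype.ext (by rw [← hg, map_neg, map_one]; rfl)
  · rintro (rfl | rfl)
    · exact one_mem _
    · exact Subgroup.mem_center_iff.2 fun h ↦ by simp

/-- `SL₂` over a finite field of odd order contains a pair of elements generating `Q₈`. -/
theorem exists_quaternion_pair [Fintype F] (hF : Odd (Fintype.card F)) :
    ∃ a b : SL(2, F), a ^ 2 = -1 ∧ b ^ 2 = -1 ∧ b * a = -(a * b) := by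
  obtain ⟨p, hp⟩ := CharP.exists F
  have := CharP.char_is_prime F p
  have : NeZero p := ⟨this.ne_zero⟩
  obtain ⟨x, y, hxy⟩ := CharP.sq_add_sq F p (-1)
  push_cast at hxy
  refine ⟨mk2 0 (-1) 1 0 (by simp), mk2 (x : F) y y (-x) (by linear_combination -hxy), ?_, ?_, ?_⟩
  · ext i j
    fin_cases i <;> fin_cases j <;> simp [pow_two, Matrix.mul_apply, Fin.sum_univ_two]
  · ext i j
    fin_cases i <;> fin_cases j <;> simp [pow_two, Matrix.mul_apply, Fin.sum_univ_two] <;>
      first | ring1 | linear_combination hxy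
  · ext i j
    fin_cases i <;> fin_cases j <;> simp [Matrix.mul_apply, Fin.sum_univ_two]

/-- `SL₂` over a finite field of odd order contains `Q₈`. -/
theorem exists_quaternion_subgroup [Fintype F] (hF : Odd (Fintype.card F)) :
    ∃ a b : SL(2, F), a ^ 2 = -1 ∧ b ^ 2 = -1 ∧ b * a = -(a * b) ∧
      Nonempty (Subgroup.closure ({a, b} : Set SL(2, F)) ≃* QuaternionGroup 2) := by
  obtain ⟨a, b, ha, hb, hab⟩ := exists_quaternion_pair hF
  have h2 := two_ne_zero_of_odd_card hF
  have hne := SL_two_neg_one_ne_one h2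
  have ho : orderOf a = 2 * 2 := by
    refine orderOf_eq_prime_pow (p := 2) (n := 1) (by rw [pow_one, ha]; exact hne) ?_
    rw [show 2 ^ (1 + 1) = 2 * 2 by norm_num, pow_mul, ha]; simp
  have hai : a⁻¹ = -a := by
    apply inv_eq_of_mul_eq_one_right
    rw [mul_neg, ← pow_two, ha, neg_neg]
  refine ⟨a, b, ha, hb, hab, CL.nonempty_closure_mulEquiv_quaternionGroup a b ho (hb.trans ha.symm)
    (by rw [hab, hai]; simp) fun hmem ↦ ?_⟩
  obtain ⟨k, rfl⟩ := Subgroup.mem_zpowers_iff.1 hmem
  rw [← _root_.zpow_add_one, ← _root_.zpow_one_add, add_comm] at hab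
  apply hne
  have : (-1 : SL(2, F)) * a ^ (1 + k) = 1 * a ^ (1 + k) := by rw [neg_one_mul, one_mul, ← hab]
  exact mul_right_cancel this

/-- A `2`-subgroup of `SL₂` in odd characteristic is cyclic or generalised quaternion. -/
theorem isCyclic_or_quaternion_of_two_subgroup (h2 : (2 : F) ≠ 0) (H : Subgroup SL(2, F))
    [Finite H] (hH : IsPGroup 2 H) :
    IsCyclic H ∨ ∃ k : ℕ, 1 ≤ k ∧ Nonempty (H ≃* QuaternionGroup (2 ^ k)) := by
  refine (CL.isCyclic_or_quaternion_of_commute hH fun x y _ hx hy hx1 ↦ ?_).imp id (·.2)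
  by_cases hy1 : y = 1
  · rw [hy1]; exact one_mem _
  · have e1 := SL_two_eq_neg_one_of_mul_self h2 (g := x) (fun h ↦ hx1 (Subtype.ext h))
      (by rw [← pow_two]; exact congrArg Subtype.val hx)
    have e2 := SL_two_eq_neg_one_of_mul_self h2 (g := y) (fun h ↦ hy1 (Subtype.ext h))
      (by rw [← pow_two]; exact congrArg Subtype.val hy)
    rw [show y = x from Subtype.ext (e2.trans e1.symm)]
    exact Subgroup.mem_zpowers x

theorem sylow_two_SL_two_quaternion [Fintype F] (hF : Odd (Fintype.card F)) (P : Sylow 2 SL(2, F)) :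
    ∃ k : ℕ, 1 ≤ k ∧ Nonempty ((P : Subgroup SL(2, F)) ≃* QuaternionGroup (2 ^ k)) := by
  have h2 := two_ne_zero_of_odd_card hF
  refine (isCyclic_or_quaternion_of_two_subgroup h2 P P.isPGroup').resolve_left fun hc ↦ ?_
  obtain ⟨a, b, ha, hb, hab, ⟨e⟩⟩ := exists_quaternion_subgroup hF
  have hp : IsPGroup 2 (Subgroup.closure ({a, b} : Set SL(2, F))) :=
    IsPGroup.of_card (n := 3) (by
      rw [Nat.card_congr e.toEquiv, Nat.card_eq_fintype_card, QuaternionGroup.card]; rfl)
  obtain ⟨Q, hQ⟩ := hp.exists_le_sylow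
  have hcQ : IsCyclic Q := (Sylow.equiv P Q).isCyclic.1 hc
  have haQ : a ∈ (Q : Subgroup SL(2, F)) := hQ (Subgroup.subset_closure (by simp))
  have hbQ : b ∈ (Q : Subgroup SL(2, F)) := hQ (Subgroup.subset_closure (by simp))
  have hcomm : b * a = a * b := congrArg Subtype.val
    (hcQ.isMulCommutative.is_comm.comm (⟨b, hbQ⟩ : (Q : Subgroup SL(2, F))) ⟨a, haQ⟩)
  apply SL_two_neg_one_ne_one h2
  have : (-1 : SL(2, F)) * (a * b) = 1 * (a * b) := by rw [neg_one_mul, one_mul, ← hab, hcomm]
  exact mul_right_cancel this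

/-- An element of `SL₂` with a nonzero fixed vector over an extension field is unipotent. -/
theorem sub_one_sq_eq_zero_of_fixed {K : Type*} [Field K] (f : F →+* K) (g : SL(2, F))
    {v : Fin 2 → K} (hv : v ≠ 0) (h : (g : Matrix (Fin 2) (Fin 2) F).map f *ᵥ v = v) :
    ((g : Matrix (Fin 2) (Fin 2) F) - 1) ^ 2 = 0 := by
  have hd := g.det_coe
  rw [det_fin_two] at hd
  have hd' := congrArg f hd
  have e0 := congrFun h 0
  have e1 := congrFun h 1
  simp only [mulVec, dotProduct, Fin.sum_univ_two, map_apply, map_sub, map_mul, map_one]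
    at e0 e1 hd'
  have htr : (g : Matrix (Fin 2) (Fin 2) F) 0 0 + (g : Matrix (Fin 2) (Fin 2) F) 1 1 = 2 := by
    apply f.injective
    rw [map_add, map_ofNat]
    by_contra hne
    apply hv
    have hne' := sub_ne_zero.2 hne
    ext i
    fin_cases i
    · refine (mul_eq_zero.1 ?_).resolve_left hne'
      simp only [Fin.zero_eta]
      linear_combination (1 - f (g.1 1 1)) * e0 + f (g.1 0 1) * e1 + v 0 * hd'
    · refine (mul_eq_zero.1 ?_).resolve_left hne'
      simp only [Fin.mk_one]
      linear_combination (1 - f (g.1 0 0)) * e1 + f (g.1 1 0) * e0 + v 1 * hd'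
  ext i j
  fin_cases i <;> fin_cases j <;> simp [pow_two, Matrix.mul_apply, Fin.sum_univ_two]
  · linear_combination g.1 0 0 * htr - hd
  · linear_combination g.1 0 1 * htr
  · linear_combination g.1 1 0 * htr
  · linear_combination g.1 1 1 * htr - hd

theorem pow_char_eq_one_of_unipotent (p : ℕ) [hp : Fact p.Prime] [CharP F p] (g : SL(2, F))
    (h : ((g : Matrix (Fin 2) (Fin 2) F) - 1) ^ 2 = 0) : g ^ p = 1 := by
  apply Subtype.ext
  have : ((g : Matrix (Fin 2) (Fin 2) F) - 1) ^ p = 0 := pow_eq_zero_of_le hp.out.two_le h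
  rw [sub_pow_char_of_commute _ (Commute.one_right _), one_pow, sub_eq_zero] at this
  exact this

/-- A finite subgroup of `SL₂` without unipotent elements which centralises a non-central element
is cyclic. -/
theorem isCyclic_of_commute_noncentral (H : Subgroup SL(2, F)) [Finite H]
    (hH : ∀ g ∈ H, ((g : Matrix (Fin 2) (Fin 2) F) - 1) ^ 2 = 0 → g = 1) (z : SL(2, F))
    (hz : z ∉ Subgroup.center SL(2, F)) (hc : ∀ g ∈ H, z * g = g * z) : IsCyclic H := by
  let K := AlgebraicClosure F
  let f : F →+* K := algebraMap F K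
  obtain ⟨l, hl⟩ := Module.End.exists_eigenvalue (Matrix.toLin' ((z : Matrix (Fin 2) (Fin 2) F).map f))
  obtain ⟨v, hv⟩ := hl.exists_hasEigenvector
  have hv0 := hv.2
  have hvl : (z : Matrix (Fin 2) (Fin 2) F).map f *ᵥ v = l • v := hv.apply_eq_smul
  have key : ∀ g ∈ H, ∃ c : K, c • v = (g : Matrix (Fin 2) (Fin 2) F).map f *ᵥ v := by
    intro g hg
    set w := (g : Matrix (Fin 2) (Fin 2) F).map f *ᵥ v with hw
    have hwl : (z : Matrix (Fin 2) (Fin 2) F).map f *ᵥ w = l • w := by
      rw [hw, mulVec_mulVec, ← Matrix.map_mul, ← Matrix.SpecialLinearGroup.coe_mul, hc g hg,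
        Matrix.SpecialLinearGroup.coe_mul, Matrix.map_mul, ← mulVec_mulVec, hvl, mulVec_smul]
    by_cases hw0 : w = 0
    · exact ⟨0, by rw [hw0, zero_smul]⟩
    rw [← Projectivization.mk_eq_mk_iff' K w v hw0 hv0, mk_eq_mk_iff_det]
    by_contra hne
    apply hz
    have hne' := sub_ne_zero.2 hne
    have a0 := congrFun hvl 0
    have a1 := congrFun hvl 1
    have b0 := congrFun hwl 0
    have b1 := congrFun hwl 1
    simp only [mulVec, dotProduct, Fin.sum_univ_two, map_apply, Pi.smul_apply, smul_eq_mul]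
      at a0 a1 b0 b1
    have c01 : f (z.1 0 1) = 0 :=
      (mul_eq_zero.1 (by linear_combination w 0 * a0 - v 0 * b0)).resolve_left hne'
    have c10 : f (z.1 1 0) = 0 :=
      (mul_eq_zero.1 (by linear_combination v 1 * b1 - w 1 * a1)).resolve_left hne'
    have c00 : f (z.1 0 0) - l = 0 :=
      (mul_eq_zero.1 (by linear_combination v 1 * b0 - w 1 * a0)).resolve_left hne'
    have c11 : f (z.1 1 1) - l = 0 :=
      (mul_eq_zero.1 (by linear_combination w 0 * a1 - v 0 * b1)).resolve_left hne'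
    have d01 : z.1 0 1 = 0 := (map_eq_zero f).1 c01
    have d10 : z.1 1 0 = 0 := (map_eq_zero f).1 c10
    have d11 : z.1 1 1 = z.1 0 0 := f.injective (by linear_combination c11 - c00)
    refine Subgroup.mem_center_iff.2 fun x ↦ ?_
    ext i j
    fin_cases i <;> fin_cases j <;> simp [Matrix.mul_apply, Fin.sum_univ_two, d01, d10, d11, mul_comm]
  choose c hc using key
  let χ : H →* K :=
    { toFun := fun g ↦ c g g.2
      map_one' := by
        apply smul_left_injective K hv0
        simp only [hc]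
        simp
      map_mul' := fun g h ↦ by
        apply smul_left_injective K hv0
        simp only
        rw [hc, mul_comm, mul_smul, hc g g.2, ← mulVec_smul, hc, mulVec_mulVec, ← Matrix.map_mul]
        rfl }
  refine isCyclic_of_injective_ringHom χ ((injective_iff_map_eq_one χ).2 fun g hg ↦ ?_)
  apply Subtype.ext
  refine hH g g.2 (sub_one_sq_eq_zero_of_fixed f g hv0 ?_)
  rw [← hc g g.2, show c g g.2 = 1 from hg, one_smul]

end CL.Lin
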