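import Cfsg.Agent.Base
import Cfsg.Agent.Lin.Blocks

/-!
# The action `B ↦ g B gᵀ` of `SL` on finite sets of matrices
-/

set_option autoImplicit false

namespace CL.Lin

open Matrix

variable {ι R : Type*} [Fintype ι] [DecidableEq ι] [CommRing R] [DecidableEq R]

/-- The congruence action on finite sets of matrices. -/
def congrAct (g : SpecialLinearGroup ι R) (S : Finset (Matrix ι ι R)) : Finset (Matrix ι ι R) :=
  S.image fun B ↦ (g : Matrix ι ι R) * B * (g : Matrix ι ι R)ᵀ

theorem congrAct_mul (g g' : SpecialLinearGroup ι R) (S : Finset (Matrix ι ι R)) :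
    congrAct (g * g') S = congrAct g (congrAct g' S) := by
  simp only [congrAct, Finset.image_image, Matrix.SpecialLinearGroup.coe_mul, transpose_mul]
  congr 1
  ext B
  simp [Matrix.mul_assoc]

theorem congrAct_one (S : Finset (Matrix ι ι R)) : congrAct (1 : SpecialLinearGroup ι R) S = S := by
  simp [congrAct]

/-- A homomorphism from `SL ι (ZMod p)` given by a family of finite sets of matrices permuted by
the elementary transvections. -/
theorem exists_hom_of_congrAct (p : ℕ) [Fact p.Prime] {H Y : Type*} [Group H] [MulAction H Y]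
    [FaithfulSMul H Y] (S : Y → Finset (Matrix ι ι (ZMod p))) (hS : Function.Injective S)
    (h : ∀ (i j : ι) (hij : i ≠ j), ∃ h : H, ∀ y,
      congrAct (SpecialLinearGroup.transvection hij 1) (S y) = S (h • y)) :
    ∃ φ : SpecialLinearGroup ι (ZMod p) →* H, ∀ g y, congrAct g (S y) = S (φ g • y) :=
  exists_hom_of_blocks congrAct congrAct_mul S hS fun g ↦
    transvection_induction_zmod p (fun g ↦ ∃ h : H, ∀ y, congrAct g (S y) = S (h • y))
      ⟨1, fun y ↦ by rw [congrAct_one, one_smul]⟩ h
      (fun A B hA hB ↦ blocks_mul congrAct congrAct_mul S A B hA hB) g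

end CL.Lin
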